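import Cfsg.Agent.Lib.Inv.QEight

/-!
A quaternion group of order 8 with an element of odd order acting non-trivially gives a
homomorphism onto `SL(2, 3)`.
-/

set_option autoImplicit false

namespace Cfsg.Lib.Inv

open Subgroup Cfsg.Lib.Transfer

variable {G : Type*} [Group G]

theorem q8_hom_ext {f g : QuaternionGroup 2 →* G} (h1 : f (.a 1) = g (.a 1))
    (h2 : f (.xa 0) = g (.xa 0)) : f = g := by
  ext x
  have key : ∀ x : QuaternionGroup 2, ∃ k : Fin 4, x = QuaternionGroup.a 1 ^ k.1 ∨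
      x = QuaternionGroup.xa 0 * QuaternionGroup.a 1 ^ k.1 := by decide
  obtain ⟨k, rfl | rfl⟩ := key x <;> simp only [map_mul, map_pow, h1, h2]

theorem cast_one_four : (ZMod.cast (1 : ZMod (2 * 2)) : ℤ) = 1 := by decide

/-- The automorphism `i ↦ j ↦ ij` of `Q₈`. -/
noncomputable def q8Rot : MulAut (QuaternionGroup 2) :=
  MulEquiv.ofBijective (PGroup.quaternionHom (n := 2) (a := QuaternionGroup.xa 0)
    (b := (QuaternionGroup.a 1 * QuaternionGroup.xa 0 : QuaternionGroup 2)) (by decide) (by decide)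
    (by decide)) (Finite.injective_iff_bijective.1
      (PGroup.quaternionHom_injective _ _ _ (orderOf_eq_four_iff.2 (by decide)) (by
        rw [mem_zpowers_iff_of_pow_four (by decide)]; decide)))

/-- `Q₈ ⋊ ℤ` with the generator of `ℤ` acting as `i ↦ j ↦ ij`. -/
abbrev Q8Z := QuaternionGroup 2 ⋊[zpowersHom (MulAut (QuaternionGroup 2)) q8Rot] Multiplicative ℤ

theorem exists_q8z_hom {i j g : G} (hj : j ^ 2 = i ^ 2) (hji : j * i * j⁻¹ = i⁻¹)
    (hi : i ^ (2 * 2) = 1) (h1 : g * i * g⁻¹ = j) (h2 : g * j * g⁻¹ = i * j) :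
    ∃ α : Q8Z →* G, ∀ (q : QuaternionGroup 2) (n : ℤ),
      α ⟨q, Multiplicative.ofAdd n⟩ = PGroup.quaternionHom hj hji hi q * g ^ n := by
  let ψ := PGroup.quaternionHom hj hji hi
  have ψ1 : ψ (.a 1) = i := by
    rw [PGroup.quaternionHom_a, cast_one_four, zpow_one]
  have ψ2 : ψ (.xa 0) = j := by simp [ψ, PGroup.quaternionHom_xa]
  have r1 : q8Rot (.a 1) = .xa 0 := by
    rw [q8Rot, MulEquiv.ofBijective_apply, PGroup.quaternionHom_a]; decide
  have r2 : q8Rot (.xa 0) = .a 1 * .xa 0 := by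
    rw [q8Rot, MulEquiv.ofBijective_apply, PGroup.quaternionHom_xa]; decide
  have base : ∀ q, ψ (q8Rot q) = g * ψ q * g⁻¹ := by
    have : ψ.comp q8Rot.toMonoidHom = (MulAut.conj g).toMonoidHom.comp ψ :=
      q8_hom_ext (by simp [r1, ψ1, ψ2, h1]) (by
        simp only [MonoidHom.comp_apply, MulEquiv.coe_toMonoidHom, r2, map_mul, ψ1, ψ2,
          MulAut.conj_apply, h2])
    exact fun q => DFunLike.congr_fun this q
  have all : ∀ (n : ℤ) q, ψ ((q8Rot ^ n) q) = g ^ n * ψ q * (g ^ n)⁻¹ := by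
    intro n
    induction n using Int.induction_on with
    | zero => simp
    | succ n ih => intro q; rw [zpow_add_one, MulAut.mul_apply, ih, base]; group
    | pred n ih =>
      intro q
      have := base (q8Rot⁻¹ q)
      rw [MulAut.apply_inv_self] at this
      rw [zpow_sub_one, MulAut.mul_apply, ih, this]; group
  refine ⟨SemidirectProduct.lift ψ (zpowersHom G g) fun n => ?_, fun q n => ?_⟩
  · ext q
    simpa [← map_zpow] using all n.toAdd q
  · rw [SemidirectProduct.mk_eq_inl_mul_inr, map_mul, SemidirectProduct.lift_inl,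
      SemidirectProduct.lift_inr]
    simp [ψ]

private def mI : Matrix.SpecialLinearGroup (Fin 2) (ZMod 3) := ⟨!![0, 2; 1, 0], by decide⟩
private def mJ : Matrix.SpecialLinearGroup (Fin 2) (ZMod 3) := ⟨!![1, 1; 1, 2], by decide⟩
private def mC : Matrix.SpecialLinearGroup (Fin 2) (ZMod 3) := ⟨!![1, 1; 0, 1], by decide⟩

theorem exists_q8z_hom_sl : ∃ β : Q8Z →* Matrix.SpecialLinearGroup (Fin 2) (ZMod 3),
    Function.Surjective β ∧ ∀ n : ℤ, 3 ∣ n → β ⟨1, Multiplicative.ofAdd n⟩ = 1 := by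
  obtain ⟨β, hβ⟩ := exists_q8z_hom (i := mI) (j := mJ) (g := mC) (by decide +kernel)
    (by decide +kernel) (by decide +kernel) (by decide +kernel) (by decide +kernel)
  refine ⟨β, fun s => ?_, ?_⟩
  · have key : ∀ s : Matrix.SpecialLinearGroup (Fin 2) (ZMod 3), ∃ a : Fin 2, ∃ b : Fin 4,
        ∃ c : Fin 3, s = mJ ^ a.1 * mI ^ b.1 * mC ^ c.1 := by decide +kernel
    have hI : mI ∈ β.range := ⟨⟨.a 1, Multiplicative.ofAdd 0⟩, by
      rw [hβ, PGroup.quaternionHom_a, cast_one_four]; simp⟩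
    have hJ : mJ ∈ β.range := ⟨⟨.xa 0, Multiplicative.ofAdd 0⟩, by
      rw [hβ]; simp [PGroup.quaternionHom_xa]⟩
    have hC : mC ∈ β.range := ⟨⟨1, Multiplicative.ofAdd 1⟩, by rw [hβ]; simp⟩
    obtain ⟨a, b, c, rfl⟩ := key s
    exact mul_mem (mul_mem (pow_mem hJ _) (pow_mem hI _)) (pow_mem hC _)
  · rintro _ ⟨k, rfl⟩
    have : mC ^ (3 : ℤ) = 1 := by decide +kernel
    rw [hβ, map_one, one_mul, zpow_mul, this, one_zpow]

/-- `Q ≅ Q₈` and an element `g` of odd order acting non-trivially on it generate a group mapping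
onto `SL(2, 3)`. -/
theorem exists_hom_sl_two_three {Q : Subgroup G} (hQ : Nonempty (Q ≃* QuaternionGroup 2)) {g : G}
    (hg : g ∈ normalizer (Q : Set G)) (ho : Odd (orderOf g)) (hc : g ∉ centralizer (Q : Set G)) :
    ∃ H : Subgroup G, H = Q ⊔ zpowers g ∧
      ∃ f : H →* Matrix.SpecialLinearGroup (Fin 2) (ZMod 3), Function.Surjective f := by
  have hfix : ∀ g ∈ normalizer (Q : Set G), Odd (orderOf g) → g ∉ centralizer (Q : Set G) →
      ∀ u ∈ Q, u * u ≠ 1 → g * u * g⁻¹ ≠ u ∧ g * u * g⁻¹ ≠ u⁻¹ := fun g hg ho hc u hu hu2 =>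
    ⟨fun e => hc (q8_mem_centralizer_of_odd hQ hg ho hu hu2 (Or.inl e)),
      fun e => hc (q8_mem_centralizer_of_odd hQ hg ho hu hu2 (Or.inr e))⟩
  have sqne : ∀ (g x : G), x * x ≠ 1 → g * x * g⁻¹ * (g * x * g⁻¹) ≠ 1 := fun g x h => by
    have : g * x * g⁻¹ * (g * x * g⁻¹) = g * (x * x) * g⁻¹ := by group
    rw [this]; exact conj_ne_one h
  have h3 : g ^ 3 ∈ centralizer (Q : Set G) := by
    refine q8_mem_centralizer_of_odd_of_mem_sup hQ
      (Odd.of_dvd_nat ho (orderOf_pow_dvd 3)) ?_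
    obtain ⟨c, hc⟩ := q8_relIndex_dvd_six hQ
    refine mem_of_odd_of_sq_mem (Odd.of_dvd_nat ho (orderOf_pow_dvd 3)) ?_
    rw [← pow_add, show 3 + 3 = 6 from rfl, hc, pow_mul]
    exact pow_mem (pow_relIndex_mem_of_le_normalizer (PGroup.le_normalizer_sup le_rfl
      (normalizer_le_normalizer_centralizer' Q)) hg) c
  -- choose the generator acting as `i ↦ j ↦ ij`
  obtain ⟨g', hg', hz, i, hi, hi2, h2⟩ : ∃ g', (g' = g ∨ g' = g⁻¹) ∧ zpowers g' = zpowers g ∧
      ∃ i ∈ Q, i * i ≠ 1 ∧ g' * (g' * i * g'⁻¹) * g'⁻¹ = i * (g' * i * g'⁻¹) := by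
    obtain ⟨i, hi, -, -, hi2, -⟩ := q8_exists hQ
    have hj := conj_mem_of_mem_normalizer hg hi
    have hk := conj_mem_of_mem_normalizer hg hj
    have hj2 := sqne g i hi2
    have hk2 := sqne g _ hj2
    have f1 := hfix g hg ho hc i hi hi2
    have f2 := hfix g hg ho hc _ hj hj2
    have e3 : g * (g * (g * i * g⁻¹) * g⁻¹) * g⁻¹ = i := by
      rw [← mem_centralizer_iff_conj.1 h3 i hi]
      conv_lhs => rw [mem_centralizer_iff_conj.1 h3 i hi]
      simp only [pow_succ, pow_zero, one_mul, mul_inv_rev, mul_assoc]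
    have f3 := hfix g hg ho hc _ hk hk2
    rw [e3] at f3
    rcases q8_mem_cases hQ hi hj hi2 hj2 f1.1 f1.2 hk with e | e | e | e | e | e | e | e
    · exact absurd (by rw [e, mul_one]) hk2
    · exact absurd (by
        rw [e, ← q8_pow_four hQ hi]; simp only [pow_succ, pow_zero, one_mul, mul_assoc]) hk2
    · exact absurd e.symm f3.1
    · exact absurd (by rw [e, inv_inv]) f3.2
    · exact absurd e f2.1
    · exact absurd e f2.2
    · exact ⟨g, Or.inl rfl, rfl, i, hi, hi2, e⟩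
    · refine ⟨g⁻¹, Or.inr rfl, zpowers_inv, i, hi, hi2, ?_⟩
      have e1 : g⁻¹ * i * g⁻¹⁻¹ = (i * (g * i * g⁻¹))⁻¹ := by
        rw [← e]; conv_lhs => rw [← e3]
        group
      have e2 : g⁻¹ * (g⁻¹ * i * g⁻¹⁻¹) * g⁻¹⁻¹ = g * i * g⁻¹ := by
        conv_lhs => rw [← e3]
        group
      rw [e2, e1]
      have a1 := q8_conj_eq_inv hQ hj hi hj2 hi2 f1.1.symm (fun e => f1.2 (inv_eq_iff_eq_inv.1 e.symm))
      generalize g * i * g⁻¹ = j at a1 ⊢
      calc j = (i * j * i⁻¹)⁻¹ := by rw [a1, inv_inv]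
        _ = _ := by group
  have hg'N : g' ∈ normalizer (Q : Set G) := by
    rcases hg' with rfl | rfl; exacts [hg, inv_mem hg]
  have ho' : Odd (orderOf g') := by
    rcases hg' with rfl | rfl; exacts [ho, by rwa [orderOf_inv]]
  have hc' : g' ∉ centralizer (Q : Set G) := by
    rcases hg' with rfl | rfl; exacts [hc, fun h => hc (by simpa using inv_mem h)]
  have h3' : g' ^ 3 ∈ centralizer (Q : Set G) := by
    rcases hg' with rfl | rfl; exacts [h3, by rw [inv_pow]; exact inv_mem h3]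
  have hj := conj_mem_of_mem_normalizer hg'N hi
  have hj2 := sqne g' i hi2
  have f1 := hfix g' hg'N ho' hc' i hi hi2
  have r1 : (g' * i * g'⁻¹) ^ 2 = i ^ 2 := by rw [sq, sq]; exact q8_sq_eq hQ hj hi hj2 hi2
  have r2 := q8_conj_eq_inv hQ hi hj hi2 hj2 f1.1 f1.2
  have r3 : i ^ (2 * 2) = 1 := q8_pow_four hQ hi
  have hnm : g' * i * g'⁻¹ ∉ zpowers i := by
    rw [mem_zpowers_iff_of_pow_four r3]
    rintro (e | e | e | e)
    · exact hj2 (by rw [e, mul_one])
    · exact f1.1 e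
    · exact hj2 (by rw [e, ← r3]; simp only [pow_succ, pow_zero, one_mul, mul_assoc])
    · exact f1.2 e
  have hinj := PGroup.quaternionHom_injective r1 r2 r3 (q8_orderOf hQ hi hi2) hnm
  have hrange : (PGroup.quaternionHom r1 r2 r3).range = Q := by
    rw [PGroup.quaternionHom_range]
    exact le_antisymm (sup_le (zpowers_le.2 hi) (zpowers_le.2 hj))
      (q8_le_of_mem hQ hi hj hi2 hj2 f1.1 f1.2 (mem_sup_left (mem_zpowers _))
        (mem_sup_right (mem_zpowers _)))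
  obtain ⟨α, hα⟩ := exists_q8z_hom r1 r2 r3 rfl h2
  obtain ⟨β, hβ, hβ1⟩ := exists_q8z_hom_sl
  have hker : α.rangeRestrict.ker ≤ β.ker := by
    rintro ⟨q, n⟩ hq
    rw [MonoidHom.ker_rangeRestrict, MonoidHom.mem_ker] at hq
    have e := hα q n.toAdd
    rw [ofAdd_toAdd, hq] at e
    have hqQ : PGroup.quaternionHom r1 r2 r3 q ∈ Q := hrange ▸ ⟨q, rfl⟩
    have e1 : g' ^ n.toAdd = (PGroup.quaternionHom r1 r2 r3 q)⁻¹ :=
      (inv_eq_of_mul_eq_one_right e.symm).symm
    have e2 : g' ^ n.toAdd = 1 := by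
      have ho2 : Odd (orderOf (g' ^ n.toAdd)) :=
        Odd.of_dvd_nat ho' (orderOf_dvd_of_mem_zpowers ⟨_, rfl⟩)
      rw [← mem_bot]
      refine mem_of_odd_of_two_pow_mem ho2 (k := 2) ?_
      rw [e1, mem_bot]
      exact q8_pow_four hQ (inv_mem hqQ)
    have hq1 : q = 1 := hinj (by rw [map_one, ← inv_eq_one, ← e1, e2])
    have h3n : 3 ∣ n.toAdd := by
      by_contra hn
      apply hc'
      obtain ⟨u, v, huv⟩ : IsCoprime (3 : ℤ) n.toAdd :=
        (Int.prime_three.irreducible.coprime_iff_not_dvd).2 hn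
      have : g' = (g' ^ 3) ^ u * (g' ^ n.toAdd) ^ v := by
        rw [← zpow_natCast, ← zpow_mul, ← zpow_mul, ← zpow_add]
        conv_lhs => rw [← zpow_one g', ← huv]
        congr 1; push_cast; ring
      rw [this, e2, one_zpow, mul_one]
      exact Subgroup.zpow_mem _ h3' u
    rw [MonoidHom.mem_ker, hq1]
    exact hβ1 _ h3n
  refine ⟨α.range, ?_, α.rangeRestrict.liftOfSurjective α.rangeRestrict_surjective ⟨β, hker⟩, ?_⟩
  · rw [← hz]
    apply le_antisymm
    · rintro _ ⟨⟨q, n⟩, rfl⟩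
      have e := hα q n.toAdd
      rw [ofAdd_toAdd] at e
      rw [e]
      exact mul_mem (mem_sup_left (hrange ▸ ⟨q, rfl⟩)) (mem_sup_right ⟨_, rfl⟩)
    · refine sup_le ?_ (zpowers_le.2 ⟨⟨1, Multiplicative.ofAdd 1⟩, by rw [hα]; simp⟩)
      rw [← hrange]
      rintro _ ⟨q, rfl⟩
      exact ⟨⟨q, Multiplicative.ofAdd 0⟩, by rw [hα]; simp⟩
  · intro s
    obtain ⟨d, rfl⟩ := hβ s
    exact ⟨α.rangeRestrict d, MonoidHom.liftOfRightInverse_comp_apply _ _ _ _ _⟩

theorem exists_section_sl_two_three {Q : Subgroup G} (hQ : Nonempty (Q ≃* QuaternionGroup 2))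
    {g : G} (hg : g ∈ normalizer (Q : Set G)) (ho : Odd (orderOf g))
    (hc : g ∉ centralizer (Q : Set G)) :
    ∃ (H K : Subgroup G) (_ : (K.subgroupOf H).Normal),
      Nonempty ((H ⧸ K.subgroupOf H) ≃* Matrix.SpecialLinearGroup (Fin 2) (ZMod 3)) := by
  obtain ⟨H, -, f, hf⟩ := exists_hom_sl_two_three hQ hg ho hc
  have e : (f.ker.map H.subtype).subgroupOf H = f.ker := comap_map_eq_self_of_injective
    H.subtype_injective _
  haveI : ((f.ker.map H.subtype).subgroupOf H).Normal := by rw [e]; infer_instance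
  exact ⟨H, f.ker.map H.subtype, this,
    ⟨(QuotientGroup.quotientMulEquivOfEq e).trans (QuotientGroup.quotientKerEquivOfSurjective f hf)⟩⟩

end Cfsg.Lib.Inv
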